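import Mathlib

/-!
Lifting finite extensions of residue fields to finite free and to étale algebras.
-/

namespace Groth.Agent.ResLiftLib

universe u

open Polynomial

variable {S L : Type u} [CommRing S] [Field L] (φ : S →+* L)

/-- The subfield generated by the image of `φ`. -/
abbrev genField : Subfield L := Subfield.closure (Set.range φ)

theorem exists_div {x : L} (hx : x ∈ genField φ) : ∃ a b : S, φ b ≠ 0 ∧ x = φ a / φ b := by
  rw [genField, Subfield.mem_closure_iff] at hx
  have hcl : Subring.closure (Set.range φ) = φ.range := by rw [← RingHom.coe_range, Subring.closure_eq]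
  obtain ⟨y, hy, z, hz, rfl⟩ := hx
  rw [hcl, RingHom.mem_range] at hy hz
  obtain ⟨a, rfl⟩ := hy
  obtain ⟨b, rfl⟩ := hz
  by_cases hb : φ b = 0
  · exact ⟨0, 1, by rw [map_one]; exact one_ne_zero, by simp [hb]⟩
  · exact ⟨a, b, hb, rfl⟩

theorem apply_mem (a : S) : φ a ∈ genField φ := Subfield.subset_closure ⟨a, rfl⟩

/-- The hom into the generated subfield. -/
noncomputable abbrev toGen : S →+* genField φ := φ.codRestrict _ (apply_mem φ)

theorem exists_denom (c : ℕ → genField φ) (s : Finset ℕ) :
    ∃ b : S, φ b ≠ 0 ∧ ∀ i ∈ s, c i * toGen φ b ∈ Set.range (toGen φ) := by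
  classical
  induction s using Finset.induction_on with
  | empty => exact ⟨1, by rw [map_one]; exact one_ne_zero, by simp⟩
  | insert i s hi ih =>
    obtain ⟨b, hb, h⟩ := ih
    obtain ⟨a, b', hb', hab⟩ := exists_div φ (c i).2
    refine ⟨b * b', by rw [map_mul]; exact mul_ne_zero hb hb', fun j hj => ?_⟩
    rcases Finset.mem_insert.1 hj with rfl | hj
    · refine ⟨a * b, Subtype.ext ?_⟩
      show φ (a * b) = (c j : L) * φ (b * b')
      rw [hab, map_mul, map_mul]; field_simp
    · obtain ⟨a', ha'⟩ := h j hj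
      exact ⟨a' * b', by rw [map_mul, map_mul, ha', mul_assoc]⟩

/-- A monic lift of the minimal polynomial of a suitable multiple of `α`. -/
theorem exists_lift (α : L) (hα : IsIntegral (genField φ) α) :
    ∃ (s : S) (F : S[X]), φ s ≠ 0 ∧ F.Monic ∧ eval₂ φ (φ s * α) F = 0 ∧
      (∀ r : S[X], r.degree < F.degree → eval₂ φ (φ s * α) r = 0 → ∀ i, φ (r.coeff i) = 0) ∧
      (IsSeparable (genField φ) α → eval₂ φ (φ s * α) (derivative F) ≠ 0) := by
  haveI : Nontrivial S := φ.domain_nontrivial
  set m := minpoly (genField φ) α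
  obtain ⟨b, hb, hmem⟩ := exists_denom φ m.coeff (Finset.range m.natDegree)
  have hsub : ((toGen φ b : genField φ) : L) = φ b := rfl
  have hlifts : scaleRoots m (toGen φ b) ∈ lifts (toGen φ) := by
    rw [lifts_iff_coeff_lifts]
    intro i
    rw [coeff_scaleRoots]
    rcases lt_trichotomy i m.natDegree with hi | hi | hi
    · obtain ⟨a, ha⟩ := hmem i (Finset.mem_range.2 hi)
      refine ⟨a * b ^ (m.natDegree - i - 1), ?_⟩
      rw [map_mul, ha, map_pow, mul_assoc, ← pow_succ']
      congr 2
      omega
    · exact ⟨1, by rw [hi, Nat.sub_self, pow_zero, mul_one, map_one, ← leadingCoeff, (minpoly.monic hα).leadingCoeff]⟩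
    · exact ⟨0, by rw [coeff_eq_zero_of_natDegree_lt hi, zero_mul, map_zero]⟩
  obtain ⟨F, hFmap, hFdeg, hF⟩ := lifts_and_degree_eq_and_monic hlifts ((monic_scaleRoots_iff _).2 (minpoly.monic hα))
  have heval : ∀ r : S[X], eval₂ φ (φ b * α) r = aeval (φ b * α) (r.map (toGen φ)) := fun r => by
    rw [aeval_def, eval₂_map]; rfl
  have hdeg : F.degree = m.degree := by rw [hFdeg, degree_scaleRoots]
  have hmin : ∀ r : S[X], r.degree < F.degree → eval₂ φ (φ b * α) r = 0 → ∀ i, φ (r.coeff i) = 0 := by
    intro r hr h0 i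
    have hcomp : (r.map (toGen φ)).comp (C (toGen φ b) * X) = 0 := by
      by_contra hne
      have hroot : aeval α ((r.map (toGen φ)).comp (C (toGen φ b) * X)) = 0 := by
        rw [aeval_comp, map_mul, aeval_C, aeval_X]
        exact (heval r).symm.trans h0
      have h2 := minpoly.degree_le_of_ne_zero (genField φ) α hne hroot
      refine absurd h2 (not_le.2 ?_)
      have hbne : toGen φ b ≠ 0 := fun h => hb (congrArg Subtype.val h)
      refine lt_of_le_of_lt ?_ (hdeg ▸ hr)
      rw [degree_eq_natDegree hne, natDegree_comp, natDegree_C_mul_X _ hbne, mul_one]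
      have hr0 : r ≠ 0 := fun h => hne (by rw [h]; simp)
      rw [degree_eq_natDegree hr0]
      exact_mod_cast natDegree_map_le
    have hz : r.map (toGen φ) = 0 := by
      rcases comp_eq_zero_iff.1 hcomp with h | ⟨-, h⟩
      · exact h
      · exfalso
        have := congrArg (fun p => coeff p 1) h
        simp at this
        exact hb (congrArg Subtype.val this)
    have := congrArg Subtype.val (congrArg (fun p => coeff p i) hz)
    simpa [coeff_map] using this
  refine ⟨b, F, hb, hF, ?_, hmin, fun hsep h => ?_⟩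
  · rw [heval, hFmap]
    exact scaleRoots_eval₂_eq_zero (algebraMap (genField φ) L) (s := toGen φ b) (minpoly.aeval (genField φ) α)
  · have hdlt : (derivative F).degree < F.degree := degree_derivative_lt hF.ne_zero
    have hz := hmin _ hdlt h
    have hd : derivative m = 0 := by
      ext1 i
      rw [coeff_zero]
      have h1 := congrArg (fun p => coeff (derivative p) i) hFmap
      simp only [derivative_map, coeff_map] at h1
      rw [show toGen φ ((derivative F).coeff i) = 0 from Subtype.ext (hz i), coeff_derivative, coeff_scaleRoots] at h1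
      rw [coeff_derivative]
      have hbne : toGen φ b ^ (m.natDegree - (i + 1)) ≠ 0 := pow_ne_zero _ fun h => hb (congrArg Subtype.val h)
      refine (mul_eq_zero.1 ?_).resolve_right hbne
      rw [h1]; ring
    have hs : m.Separable := hsep
    rw [separable_def, hd, isCoprime_zero_right] at hs
    exact (minpoly.not_isUnit _ α) hs

theorem isIntegral_mono {K K' : Subfield L} (h : K ≤ K') {x : L} (hx : IsIntegral K x) : IsIntegral K' x := by
  obtain ⟨P, hP, hP0⟩ := hx
  refine ⟨P.map (Subfield.inclusion h), hP.map _, ?_⟩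
  rw [eval₂_map]
  exact hP0

variable {R : Type u} [CommRing R] [Algebra R L]

/-- Enlarging the residue field by one element. -/
theorem exists_step [Algebra R S] [Module.Finite R S] [Module.Free R S] (p : Ideal R) (ψ : S →ₐ[R] L)
    (hker : RingHom.ker ψ.toRingHom = p.map (algebraMap R S)) (α : L) (hα : IsIntegral (genField ψ.toRingHom) α) :
    ∃ (S' : Type u) (_ : CommRing S') (_ : Algebra R S') (_ : Module.Finite R S') (_ : Module.Free R S') (ψ' : S' →ₐ[R] L),
      RingHom.ker ψ'.toRingHom = p.map (algebraMap R S') ∧ Set.range ψ ⊆ Set.range ψ' ∧ α ∈ genField ψ'.toRingHom := by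
  obtain ⟨s, F, hs, hF, hroot, hmin, -⟩ := exists_lift ψ.toRingHom α hα
  haveI : Nontrivial S := ψ.toRingHom.domain_nontrivial
  haveI := hF.free_adjoinRoot
  haveI := hF.finite_adjoinRoot
  haveI : Module.Finite R (AdjoinRoot F) := Module.Finite.trans S _
  haveI : Module.Free R (AdjoinRoot F) := Module.Free.trans (S := S)
  let g : AdjoinRoot F →+* L := AdjoinRoot.lift ψ.toRingHom (ψ.toRingHom s * α) hroot
  have hgof : ∀ a : S, g (AdjoinRoot.of F a) = ψ a := fun a => AdjoinRoot.lift_of hroot
  let ψ' : AdjoinRoot F →ₐ[R] L :=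
    { g with
      commutes' := fun r => by
        show g (algebraMap R (AdjoinRoot F) r) = _
        rw [IsScalarTower.algebraMap_apply R S (AdjoinRoot F), AdjoinRoot.algebraMap_eq, hgof, ψ.commutes] }
  refine ⟨AdjoinRoot F, inferInstance, inferInstance, inferInstance, inferInstance, ψ', le_antisymm (fun x hx => ?_) ?_,
    fun y hy => ?_, ?_⟩
  · obtain ⟨G, rfl⟩ := AdjoinRoot.mk_surjective x
    have hx' : g (AdjoinRoot.mk F G) = 0 := hx
    have hG : AdjoinRoot.mk F G = AdjoinRoot.mk F (G %ₘ F) := by
      rw [AdjoinRoot.mk_eq_mk]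
      exact ⟨G /ₘ F, by linear_combination (modByMonic_add_div G F).symm⟩
    rw [hG] at hx' ⊢
    rw [AdjoinRoot.lift_mk hroot] at hx'
    have hc := hmin _ (degree_modByMonic_lt G hF) hx'
    rw [IsScalarTower.algebraMap_eq R S (AdjoinRoot F), ← Ideal.map_map, ← hker,
      ← (G %ₘ F).sum_C_mul_X_pow_eq, sum_def, map_sum]
    refine Ideal.sum_mem _ fun i _ => ?_
    rw [map_mul, AdjoinRoot.mk_C]
    exact Ideal.mul_mem_right _ _ (Ideal.mem_map_of_mem (algebraMap S (AdjoinRoot F)) (hc i))
  · rw [IsScalarTower.algebraMap_eq R S (AdjoinRoot F), ← Ideal.map_map, ← hker, Ideal.map_le_iff_le_comap]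
    intro a ha
    show g (algebraMap S (AdjoinRoot F) a) = 0
    rw [AdjoinRoot.algebraMap_eq, hgof]; exact ha
  · obtain ⟨a, rfl⟩ := hy
    exact ⟨AdjoinRoot.of F a, hgof a⟩
  · have h1 : ψ.toRingHom s * α ∈ genField ψ'.toRingHom :=
      Subfield.subset_closure ⟨AdjoinRoot.root F, AdjoinRoot.lift_root hroot⟩
    have h2 : ψ.toRingHom s ∈ genField ψ'.toRingHom := Subfield.subset_closure ⟨AdjoinRoot.of F s, hgof s⟩
    have := mul_mem (inv_mem h2) h1
    rwa [← mul_assoc, inv_mul_cancel₀ hs, one_mul] at this

/-- `L` finite over the field generated by the image of `R` is the residue field of a finite free algebra. -/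
theorem exists_finite_free (p : Ideal R) (hp : RingHom.ker (algebraMap R L) = p)
    (hfin : Module.Finite (genField (algebraMap R L)) L) :
    ∃ (S : Type u) (_ : CommRing S) (_ : Algebra R S) (_ : Module.Finite R S) (_ : Module.Free R S) (ψ : S →ₐ[R] L),
      RingHom.ker ψ.toRingHom = p.map (algebraMap R S) ∧ genField ψ.toRingHom = ⊤ := by
  classical
  let K := genField (algebraMap R L)
  let b := Module.Free.chooseBasis K L
  have key : ∀ t : Finset (Module.Free.ChooseBasisIndex K L),
      ∃ (S : Type u) (_ : CommRing S) (_ : Algebra R S) (_ : Module.Finite R S) (_ : Module.Free R S) (ψ : S →ₐ[R] L),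
      RingHom.ker ψ.toRingHom = p.map (algebraMap R S) ∧ ∀ i ∈ t, b i ∈ genField ψ.toRingHom := by
    intro t
    induction t using Finset.induction_on with
    | empty => exact ⟨R, inferInstance, inferInstance, inferInstance, inferInstance, Algebra.ofId R L,
        by rw [Algebra.algebraMap_self, Ideal.map_id]; exact hp, by simp⟩
    | insert i t hi ih =>
      obtain ⟨S, _, _, _, _, ψ, hker, hmem⟩ := ih
      have hle : K ≤ genField ψ.toRingHom := Subfield.closure_le.2 fun x ⟨r, hr⟩ =>
        Subfield.subset_closure ⟨algebraMap R S r, (ψ.commutes r).trans hr⟩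
      haveI : Module.Finite K L := hfin
      obtain ⟨S', _, _, hf', hfr', ψ', hker', hrange, hα⟩ :=
        exists_step p ψ hker (b i) (isIntegral_mono hle (IsIntegral.of_finite K (b i)))
      refine ⟨S', inferInstance, inferInstance, hf', hfr', ψ', hker', fun j hj => ?_⟩
      rcases Finset.mem_insert.1 hj with rfl | hj
      · exact hα
      · exact Subfield.closure_mono hrange (hmem j hj)
  haveI : Module.Finite K L := hfin
  obtain ⟨S, i1, i2, i3, i4, ψ, hker, hmem⟩ := key Finset.univ
  refine ⟨S, i1, i2, i3, i4, ψ, hker, eq_top_iff.2 fun x _ => ?_⟩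
  have hle : K ≤ genField ψ.toRingHom := Subfield.closure_le.2 fun x ⟨r, hr⟩ =>
    Subfield.subset_closure ⟨algebraMap R S r, (ψ.commutes r).trans hr⟩
  rw [← b.sum_repr x]
  exact sum_mem fun i _ => mul_mem (hle (b.repr x i).2) (hmem i (Finset.mem_univ i))

/-- A separable generator gives an étale algebra. -/
theorem exists_etale (α : L) (hα : IsIntegral (genField (algebraMap R L)) α)
    (hsep : IsSeparable (genField (algebraMap R L)) α) :
    ∃ (R' : Type u) (_ : CommRing R') (_ : Algebra R R') (_ : Algebra.Etale R R') (ψ : R' →ₐ[R] L),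
      α ∈ genField ψ.toRingHom := by
  obtain ⟨s, F, hs, hF, hroot, -, hd⟩ := exists_lift (algebraMap R L) α hα
  let P : StandardEtalePair R := ⟨F, hF, derivative F, 1, 0, 1, by ring⟩
  have hmap : P.HasMap (algebraMap R L s * α) := ⟨hroot, (hd hsep).isUnit⟩
  refine ⟨P.Ring, inferInstance, inferInstance, inferInstance, P.lift _ hmap, ?_⟩
  have h1 : algebraMap R L s * α ∈ genField (P.lift _ hmap).toRingHom := Subfield.subset_closure ⟨P.X, P.lift_X _ hmap⟩
  have h2 : algebraMap R L s ∈ genField (P.lift _ hmap).toRingHom :=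
    Subfield.subset_closure ⟨algebraMap R _ s, (P.lift _ hmap).commutes s⟩
  have := mul_mem (inv_mem h2) h1
  rwa [← mul_assoc, inv_mul_cancel₀ hs, one_mul] at this

end Groth.Agent.ResLiftLib
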